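import Mathlib
import Groth.Prelude.Def_Found

/-!
# Descent of the Mittag-Leffler property and of surjectivity along finite injective maps
-/

set_option autoImplicit false
set_option linter.style.haveILetI false

universe u

open TensorProduct

noncomputable section

namespace Groth.Agent.MLFinDescLib

variable {R : Type u} [CommRing R]

/-- A functional which is nonzero at one. -/
theorem exists_functional {A B : Type u} [CommRing A] [IsDomain A] [CommRing B] [Algebra A B]
    [Module.Finite A B] (hinj : Function.Injective (algebraMap A B)) : ∃ φ : B →ₗ[A] A, φ 1 ≠ 0 := by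
  classical
  let K := FractionRing A
  let ι : B →ₗ[A] LocalizedModule (nonZeroDivisors A) B := LocalizedModule.mkLinearMap _ B
  have h1 : ι 1 ≠ 0 := fun h => by
    obtain ⟨⟨r, hr⟩, hr1⟩ := (IsLocalizedModule.eq_zero_iff (nonZeroDivisors A) ι).1 h
    exact nonZeroDivisors.ne_zero hr (hinj (by simpa [Algebra.smul_def] using hr1))
  obtain ⟨ψ, hψ⟩ := Module.Projective.exists_dual_eq_one K h1
  let g : B →ₗ[A] K := ψ.restrictScalars A ∘ₗ ι
  obtain ⟨s, hs⟩ := (inferInstance : Module.Finite A B).fg_top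
  obtain ⟨⟨b, hb⟩, hbs⟩ := IsLocalization.exist_integer_multiples_of_finset (nonZeroDivisors A) (s.image g)
  have hrange : ∀ x : B, b • g x ∈ LinearMap.range (Algebra.linearMap A K) := by
    intro x
    have hx : x ∈ Submodule.span A (s : Set B) := hs ▸ trivial
    induction hx using Submodule.span_induction with
    | mem y hy => exact hbs _ (Finset.mem_image_of_mem g hy)
    | zero => simp
    | add u v _ _ hu hv => rw [map_add, smul_add]; exact add_mem hu hv
    | smul r u _ hu => rw [map_smul, smul_comm]; exact Submodule.smul_mem _ r hu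
  let e := LinearEquiv.ofInjective (Algebra.linearMap A K) (IsFractionRing.injective A K)
  refine ⟨e.symm.toLinearMap ∘ₗ (b • g).codRestrict _ hrange, fun h => ?_⟩
  have h0 : ((b • g).codRestrict (LinearMap.range (Algebra.linearMap A K)) hrange) 1 = 0 :=
    e.symm.map_eq_zero_iff.1 h
  have : b • g 1 = 0 := congrArg Subtype.val h0
  rw [show g 1 = 1 from hψ, Algebra.smul_def, mul_one, map_eq_zero_iff _ (IsFractionRing.injective A K)] at this
  exact nonZeroDivisors.ne_zero hb this

variable (S : Type u) [CommRing S] [Algebra R S] [Module.Finite R S]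

/-- The retraction up to a factor at a prime. -/
theorem exists_retraction (hinj : Function.Injective (algebraMap R S)) (p : Ideal R) [p.IsPrime] :
    ∃ (φ : S →ₗ[R] R ⧸ p) (c : R), c ∉ p ∧ φ 1 = Ideal.Quotient.mk p c := by
  haveI : Algebra.IsIntegral R S := Algebra.IsIntegral.of_finite R S
  obtain ⟨Q, -, hQp, hQ⟩ := Ideal.exists_ideal_over_prime_of_isIntegral p (⊥ : Ideal S) (by
    rw [← RingHom.ker_eq_comap_bot, (RingHom.injective_iff_ker_eq_bot _).1 hinj]; exact bot_le)
  letI : Algebra (R ⧸ p) (S ⧸ Q) := (Ideal.quotientMap Q (algebraMap R S) hQ.ge).toAlgebra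
  haveI : IsScalarTower R (R ⧸ p) (S ⧸ Q) := IsScalarTower.of_algebraMap_eq fun r => rfl
  haveI : Module.Finite (R ⧸ p) (S ⧸ Q) := Module.Finite.of_restrictScalars_finite R _ _
  obtain ⟨φ, hφ⟩ := exists_functional (A := R ⧸ p) (B := S ⧸ Q) (Ideal.quotientMap_injective' hQ.le)
  obtain ⟨c, hc⟩ := Ideal.Quotient.mk_surjective (φ 1)
  refine ⟨φ.restrictScalars R ∘ₗ (Ideal.Quotient.mkₐ R Q).toLinearMap, c, fun h => hφ ?_, ?_⟩
  · rw [← hc, Ideal.Quotient.eq_zero_iff_mem.2 h]
  · show φ (Ideal.Quotient.mk Q 1) = _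
    rw [map_one, hc]

variable {M : Type u} [AddCommGroup M] [Module R M]

theorem piRightHom_lTensor {ι : Type u} {P Q : ι → Type u} [∀ i, AddCommGroup (P i)] [∀ i, Module R (P i)]
    [∀ i, AddCommGroup (Q i)] [∀ i, Module R (Q i)] (f : ∀ i, P i →ₗ[R] Q i)
    (x : M ⊗[R] (∀ i, P i)) (i : ι) :
    piRightHom R R M Q ((LinearMap.pi fun i => f i ∘ₗ LinearMap.proj i).lTensor M x) i =
      (f i).lTensor M (piRightHom R R M P x i) := by
  induction x using TensorProduct.induction_on with
  | zero => simp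
  | tmul a b => simp
  | add a b ha hb => simp only [map_add, Pi.add_apply, ha, hb]

/-- Families killed by an ideal on which the comparison is injective. -/
def Good (M : Type u) [AddCommGroup M] [Module R M] (I : Ideal R) : Prop :=
  ∀ (ι : Type u) (Q : ι → Type u) [∀ i, AddCommGroup (Q i)] [∀ i, Module R (Q i)],
    (∀ i, ∀ r ∈ I, ∀ q : Q i, r • q = 0) → Function.Injective (piRightHom R R M Q)

theorem eq_zero_of_smul_eq_zero [Module.Flat R M] {I : Ideal R} {a : R}
    (hg : Good M (I ⊔ Ideal.span {a})) {ι : Type u} (Q : ι → Type u) [∀ i, AddCommGroup (Q i)]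
    [∀ i, Module R (Q i)] (hQ : ∀ i, ∀ r ∈ I, ∀ q : Q i, r • q = 0) (x : M ⊗[R] (∀ i, Q i))
    (hx : piRightHom R R M Q x = 0) (hax : a • x = 0) : x = 0 := by
  let m : (∀ i, Q i) →ₗ[R] (∀ i, Q i) := LinearMap.lsmul R _ a
  let K : ι → Type u := fun i => LinearMap.ker (LinearMap.lsmul R (Q i) a)
  let inc : (∀ i, K i) →ₗ[R] (∀ i, Q i) :=
    LinearMap.pi fun i => (LinearMap.ker (LinearMap.lsmul R (Q i) a)).subtype ∘ₗ LinearMap.proj i
  have hex : Function.Exact inc m := fun q => by
    constructor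
    · intro h
      exact ⟨fun i => ⟨q i, congrFun h i⟩, rfl⟩
    · rintro ⟨k, rfl⟩
      funext i
      exact (k i).2
  have hm : m.lTensor M x = a • x := by
    rw [show m = a • LinearMap.id from LinearMap.ext fun q => rfl, LinearMap.lTensor_smul,
      LinearMap.smul_apply, LinearMap.lTensor_id, LinearMap.id_apply]
  obtain ⟨y, rfl⟩ := (Module.Flat.lTensor_exact M hex x).1 (by rw [hm, hax])
  have hy : piRightHom R R M K y = 0 := by
    funext i
    apply Module.Flat.lTensor_preserves_injective_linearMap (M := M)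
      (LinearMap.ker (LinearMap.lsmul R (Q i) a)).subtype Subtype.val_injective
    rw [Pi.zero_apply, map_zero, ← piRightHom_lTensor
      (fun i => (LinearMap.ker (LinearMap.lsmul R (Q i) a)).subtype)]
    exact congrFun hx i
  rw [(injective_iff_map_eq_zero _).1 (hg ι K fun i r hr k => ?_) y hy, map_zero]
  obtain ⟨u, hu, v, hv, rfl⟩ := Submodule.mem_sup.1 hr
  obtain ⟨w, rfl⟩ := Ideal.mem_span_singleton'.1 hv
  refine Subtype.ext ?_
  show (u + w * a) • (k.1 : Q i) = 0
  rw [add_smul, hQ i u hu, mul_smul, show a • (k.1 : Q i) = 0 from k.2, smul_zero, add_zero]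

/-- The Mittag-Leffler property descends along finite injective maps for flat modules. -/
theorem isMittagLeffler_of_baseChange [IsNoetherianRing R] (hinj : Function.Injective (algebraMap R S))
    [Module.Flat R M] (h : CAlg.IsMittagLeffler S (S ⊗[R] M)) : CAlg.IsMittagLeffler R M := by
  suffices H : ∀ I : Ideal R, Good M I by
    intro ι Q _ _
    exact H ⊥ ι Q fun i r hr q => by rw [(Submodule.mem_bot R).1 hr, zero_smul]
  intro I
  refine IsNoetherian.induction (P := fun I : Ideal R => Good M I) ?_ I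
  clear I
  intro I' ih
  obtain ⟨I, rfl⟩ : ∃ I : Ideal R, I = I' := ⟨I', rfl⟩
  intro ι Q _ _ hQ
  refine (injective_iff_map_eq_zero _).2 fun x hx => ?_
  have lt_sup : ∀ {a : R}, a ∉ (I : Set R) → I < I ⊔ Ideal.span {a} := fun {a} ha =>
    lt_of_le_of_ne le_sup_left fun e => ha (e ▸ (le_sup_right : Ideal.span {a} ≤ _)
      (Ideal.mem_span_singleton_self a))
  by_cases htop : I = ⊤
  · haveI : ∀ i, Subsingleton (Q i) := fun i => ⟨fun p q => by
      rw [← one_smul R p, ← one_smul R q, hQ i 1 (htop ▸ Submodule.mem_top) p,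
        hQ i 1 (htop ▸ Submodule.mem_top) q]⟩
    have key : ∀ z : M ⊗[R] (∀ i, Q i), z = 0 := fun z => by
      induction z using TensorProduct.induction_on with
      | zero => rfl
      | tmul m q => rw [Subsingleton.elim q 0, tmul_zero]
      | add a b ha hb => rw [ha, hb, add_zero]
    exact key x
  by_cases hp : (I : Ideal R).IsPrime
  · haveI := hp
    obtain ⟨φ, c, hc, hφ⟩ := exists_retraction S hinj (I : Ideal R)
    let eT : ∀ (N : Type u) [AddCommGroup N] [Module S N] [Module R N] [IsScalarTower R S N],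
        (S ⊗[R] M) ⊗[S] N ≃ₗ[R] M ⊗[R] N := fun N _ _ _ _ =>
      ((TensorProduct.comm S _ N).restrictScalars R ≪≫ₗ
        (AlgebraTensorModule.cancelBaseChange R S S N M).restrictScalars R) ≪≫ₗ TensorProduct.comm R N M
    let j : ∀ i, Q i →ₗ[R] S ⊗[R] Q i := fun i => TensorProduct.mk R S (Q i) 1
    let Φ : (∀ i, Q i) →ₗ[R] (∀ i, S ⊗[R] Q i) := LinearMap.pi fun i => j i ∘ₗ LinearMap.proj i
    have h1 : Φ.lTensor M x = 0 := by
      apply (eT (∀ i, S ⊗[R] Q i)).symm.injective
      rw [map_zero]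
      refine (injective_iff_map_eq_zero _).1 (h ι fun i => S ⊗[R] Q i) _ (funext fun i => ?_)
      apply (eT (S ⊗[R] Q i)).injective
      rw [Pi.zero_apply, map_zero]
      have hn : ∀ z, eT (S ⊗[R] Q i) (piRightHom S S (S ⊗[R] M) (fun i => S ⊗[R] Q i)
          ((eT (∀ i, S ⊗[R] Q i)).symm z) i) = piRightHom R R M (fun i => S ⊗[R] Q i) z i := by
        intro z
        induction z using TensorProduct.induction_on with
        | zero => simp
        | tmul a b => simp [eT]
        | add a b ha hb => simp only [map_add, Pi.add_apply, ha, hb]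
      rw [hn, piRightHom_lTensor, hx, Pi.zero_apply, map_zero]
    let L : ∀ i, (R ⧸ (I : Ideal R)) →ₗ[R] Q i →ₗ[R] Q i := fun i =>
      Submodule.liftQ (I : Ideal R) (LinearMap.lsmul R (Q i)) fun r hr => LinearMap.ext (hQ i r hr)
    let ψ : ∀ i, S ⊗[R] Q i →ₗ[R] Q i := fun i => TensorProduct.lift (L i ∘ₗ φ)
    let Ψ : (∀ i, S ⊗[R] Q i) →ₗ[R] (∀ i, Q i) := LinearMap.pi fun i => ψ i ∘ₗ LinearMap.proj i
    have hΨ : Ψ ∘ₗ Φ = c • LinearMap.id := LinearMap.ext fun q => funext fun i => by
      show L i (φ 1) (q i) = c • q i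
      rw [hφ]
      rfl
    have hcx : c • x = 0 := by
      have := congrArg (Ψ.lTensor M) h1
      rw [← LinearMap.comp_apply, ← LinearMap.lTensor_comp, hΨ, LinearMap.lTensor_smul, map_zero,
        LinearMap.smul_apply, LinearMap.lTensor_id, LinearMap.id_apply] at this
      exact this
    exact eq_zero_of_smul_eq_zero (ih _ (lt_sup hc)) Q hQ x hx hcx
  · obtain ⟨a, b, hab, ha, hb⟩ : ∃ a b, a * b ∈ (I : Set R) ∧ a ∉ (I : Set R) ∧ b ∉ (I : Set R) := by
      simp only [Ideal.isPrime_iff, htop, ne_eq, not_false_eq_true, true_and] at hp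
      push Not at hp
      exact hp
    let Im : ι → Type u := fun i => LinearMap.range (LinearMap.lsmul R (Q i) a)
    let p : (∀ i, Q i) →ₗ[R] (∀ i, Im i) :=
      LinearMap.pi fun i => (LinearMap.lsmul R (Q i) a).rangeRestrict ∘ₗ LinearMap.proj i
    let inc : (∀ i, Im i) →ₗ[R] (∀ i, Q i) :=
      LinearMap.pi fun i => (LinearMap.range (LinearMap.lsmul R (Q i) a)).subtype ∘ₗ LinearMap.proj i
    have hy : p.lTensor M x = 0 := by
      refine (injective_iff_map_eq_zero _).1 (ih _ (lt_sup hb) ι Im fun i r hr q => ?_) _ ?_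
      · obtain ⟨u, hu, v, hv, rfl⟩ := Submodule.mem_sup.1 hr
        obtain ⟨w, rfl⟩ := Ideal.mem_span_singleton'.1 hv
        obtain ⟨_, t, rfl⟩ := q
        refine Subtype.ext ?_
        show (u + w * b) • (a • t) = 0
        rw [add_smul, hQ i u hu, smul_smul, mul_assoc, mul_smul, mul_comm b a,
          hQ i (a * b) hab, smul_zero, add_zero]
      · funext i
        rw [piRightHom_lTensor, hx, Pi.zero_apply, map_zero, Pi.zero_apply]
    have hax : a • x = 0 := by
      have := congrArg (inc.lTensor M) hy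
      rw [← LinearMap.comp_apply, ← LinearMap.lTensor_comp,
        show inc ∘ₗ p = a • LinearMap.id from LinearMap.ext fun q => rfl, LinearMap.lTensor_smul,
        map_zero, LinearMap.smul_apply, LinearMap.lTensor_id, LinearMap.id_apply] at this
      exact this
    exact eq_zero_of_smul_eq_zero (ih _ (lt_sup ha)) Q hQ x hx hax

/-- A module killed by a finite faithful algebra is zero. -/
theorem subsingleton_of_tensor [IsNoetherianRing R] (hinj : Function.Injective (algebraMap R S))
    (X : Type u) [AddCommGroup X] [Module R X] [Subsingleton (S ⊗[R] X)] : Subsingleton X := by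
  suffices H : ∀ I : Ideal R, (⊤ : Submodule R X) ≤ I • ⊤ by
    refine ⟨fun a b => ?_⟩
    have : ∀ y : X, y = 0 := fun y => by
      simpa using (H ⊥ (Submodule.mem_top (x := y)))
    rw [this a, this b]
  intro I
  refine IsNoetherian.induction (P := fun I : Ideal R => (⊤ : Submodule R X) ≤ I • ⊤) ?_ I
  clear I
  intro I' ih
  obtain ⟨I, rfl⟩ : ∃ I : Ideal R, I = I' := ⟨I', rfl⟩
  have lt_sup : ∀ {a : R}, a ∉ (I : Set R) → I < I ⊔ Ideal.span {a} := fun {a} ha =>
    lt_of_le_of_ne le_sup_left fun e => ha (e ▸ (le_sup_right : Ideal.span {a} ≤ _)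
      (Ideal.mem_span_singleton_self a))
  by_cases htop : I = ⊤
  · subst htop
    simp
  by_cases hp : (I : Ideal R).IsPrime
  · haveI := hp
    obtain ⟨φ, c, hc, hφ⟩ := exists_retraction S hinj (I : Ideal R)
    have hcy : ∀ y : X, c • y ∈ (I : Ideal R) • (⊤ : Submodule R X) := fun y => by
      let L : (R ⧸ (I : Ideal R)) →ₗ[R] X →ₗ[R] X ⧸ ((I : Ideal R) • (⊤ : Submodule R X)) :=
        Submodule.liftQ (I : Ideal R)
          ((LinearMap.lsmul R X).compr₂ ((I : Ideal R) • (⊤ : Submodule R X)).mkQ)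
          fun r hr => LinearMap.ext fun z =>
            (Submodule.Quotient.mk_eq_zero _).2 (Submodule.smul_mem_smul hr trivial)
      have h0 := congrArg (TensorProduct.lift (L ∘ₗ φ)) (Subsingleton.elim ((1 : S) ⊗ₜ[R] y) 0)
      rw [map_zero, TensorProduct.lift.tmul, LinearMap.comp_apply, hφ] at h0
      exact (Submodule.Quotient.mk_eq_zero _).1 h0
    refine (ih _ (lt_sup hc)).trans ?_
    rw [Submodule.sup_smul, sup_le_iff]
    refine ⟨le_rfl, Submodule.smul_le.2 fun r hr y _ => ?_⟩
    obtain ⟨w, rfl⟩ := Ideal.mem_span_singleton'.1 hr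
    rw [mul_smul]
    exact Submodule.smul_mem _ _ (hcy y)
  · obtain ⟨a, b, hab, ha, hb⟩ : ∃ a b, a * b ∈ (I : Set R) ∧ a ∉ (I : Set R) ∧ b ∉ (I : Set R) := by
      simp only [Ideal.isPrime_iff, htop, ne_eq, not_false_eq_true, true_and] at hp
      push Not at hp
      exact hp
    have h1 := ih _ (lt_sup ha)
    have h2 := ih _ (lt_sup hb)
    refine h1.trans ?_
    rw [Submodule.sup_smul, sup_le_iff]
    refine ⟨le_rfl, Submodule.smul_le.2 fun r hr y _ => ?_⟩
    have hy := h2 (Submodule.mem_top (x := y))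
    rw [Submodule.sup_smul, Submodule.mem_sup] at hy
    obtain ⟨u, hu, v, hv, rfl⟩ := hy
    obtain ⟨w, rfl⟩ := Ideal.mem_span_singleton'.1 hr
    rw [smul_add]
    refine add_mem (Submodule.smul_mem _ _ hu) ?_
    refine Submodule.smul_induction_on hv (fun t ht z _ => ?_) (fun u v hu hv => ?_)
    · obtain ⟨w', rfl⟩ := Ideal.mem_span_singleton'.1 ht
      rw [smul_smul, show w * a * (w' * b) = (w * w') * (a * b) by ring]
      exact Submodule.smul_mem_smul (I.mul_mem_left _ hab) trivial
    · rw [smul_add]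
      exact add_mem hu hv

theorem surjective_of_lTensor [IsNoetherianRing R] (hinj : Function.Injective (algebraMap R S))
    {X Y : Type u} [AddCommGroup X] [Module R X] [AddCommGroup Y] [Module R Y] (f : X →ₗ[R] Y)
    (hf : Function.Surjective (f.lTensor S)) : Function.Surjective f := by
  have hC : Subsingleton (S ⊗[R] (Y ⧸ LinearMap.range f)) := by
    refine ⟨fun u v => ?_⟩
    have : ∀ z : S ⊗[R] (Y ⧸ LinearMap.range f), z = 0 := fun z => by
      obtain ⟨w, rfl⟩ := LinearMap.lTensor_surjective S (LinearMap.range f).mkQ_surjective z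
      obtain ⟨x, rfl⟩ := hf w
      rw [← LinearMap.comp_apply, ← LinearMap.lTensor_comp, LinearMap.range_mkQ_comp,
        LinearMap.lTensor_zero, LinearMap.zero_apply]
    rw [this u, this v]
  haveI := subsingleton_of_tensor S hinj (Y ⧸ LinearMap.range f)
  intro y
  exact (Submodule.Quotient.mk_eq_zero (LinearMap.range f)).1 (Subsingleton.elim _ (0 : Y ⧸ LinearMap.range f))

end Groth.Agent.MLFinDescLib
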