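import Mathlib
import Groth.Agent.MLProjLib.Descent
import Groth.Agent.MLFinDescLib.Inj
import Groth.Agent.S6883

/-!
# Descent of projectivity along finite injective maps
-/

set_option autoImplicit false
set_option linter.style.haveILetI false

universe u

open TensorProduct Submodule DirectSum
open Groth.Agent.KaplanskyLib Groth.Agent.MLProjLib
open scoped Classical

namespace Groth.Agent.MLFinDescLib

variable {R : Type u} [CommRing R] [IsNoetherianRing R] (S : Type u) [CommRing S] [Algebra R S]
  [Module.Finite R S] (hS : Function.Injective (algebraMap R S)) {M : Type u} [AddCommGroup M] [Module R M]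
  {κ : Type u} (N : κ → Submodule S (S ⊗[R] M))

include hS in
/-- A submodule whose image is a part of the decomposition has a flat quotient. -/
theorem flat_quotient_of_part [Module.Projective S (S ⊗[R] M)] (hN : DirectSum.IsInternal N)
    {J : Set κ} {M' : Submodule R M} (hM' : M'.baseChange S = part N J) : Module.Flat R (M ⧸ M') := by
  obtain ⟨πJ, hπJmem, hπJ⟩ := exists_proj N hN J
  have hexact : Function.Exact (M'.subtype.baseChange S) (M'.mkQ.baseChange S) :=
    lTensor_exact S (LinearMap.exact_subtype_mkQ M') M'.mkQ_surjective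
  have hsurj : Function.Surjective (M'.mkQ.baseChange S) := LinearMap.lTensor_surjective S M'.mkQ_surjective
  have hkill : ∀ y ∈ part N J, M'.mkQ.baseChange S y = 0 := fun y hy => by
    rw [← hM', baseChange_eq_range] at hy
    exact (hexact y).mpr hy
  have hle : LinearMap.ker (M'.mkQ.baseChange S) ≤ LinearMap.ker (LinearMap.id - πJ) := fun y hy => by
    have hy' : y ∈ part N J := by
      rw [← hM', baseChange_eq_range]; exact (hexact y).mp hy
    rw [LinearMap.mem_ker, LinearMap.sub_apply, LinearMap.id_apply, hπJ y hy', sub_self]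
  let γ : S ⊗[R] (M ⧸ M') →ₗ[S] S ⊗[R] M :=
    (LinearMap.ker (M'.mkQ.baseChange S)).liftQ (LinearMap.id - πJ) hle ∘ₗ
      (LinearMap.quotKerEquivOfSurjective _ hsurj).symm.toLinearMap
  have hproj : Module.Projective S (S ⊗[R] (M ⧸ M')) := by
    refine Module.Projective.of_split γ (M'.mkQ.baseChange S) (LinearMap.ext fun z => ?_)
    obtain ⟨y, rfl⟩ := hsurj z
    simp only [γ, LinearMap.coe_comp, LinearEquiv.coe_coe, Function.comp_apply]
    rw [show (LinearMap.quotKerEquivOfSurjective _ hsurj).symm (M'.mkQ.baseChange S y) =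
        (LinearMap.ker (M'.mkQ.baseChange S)).mkQ y from (LinearEquiv.symm_apply_eq _).mpr rfl]
    show M'.mkQ.baseChange S (y - πJ y) = M'.mkQ.baseChange S y
    rw [map_sub, hkill _ (hπJmem _), sub_zero]
  haveI : IsNoetherianRing S := isNoetherian_of_tower R (inferInstance : IsNoetherian R S)
  exact S6883.result R S hS (M ⧸ M')

include hS in
/-- The step of the descent: the new countably generated piece. -/
theorem exists_complement [Module.Flat R M] [Module.Projective S (S ⊗[R] M)] (hN : DirectSum.IsInternal N)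
    {J C : Set κ} {s : Set M} (hs : s.Countable) {M' : Submodule R M} (hM' : M'.baseChange S = part N J)
    (hC : (span R s).baseChange S = part N C) :
    ∃ L : Submodule R M, CG L ∧ Module.Projective R L ∧ Disjoint L M' ∧ L ⊔ M' = M' ⊔ span R s := by
  let M'' := M' ⊔ span R s
  let Q : Submodule R (M ⧸ M') := M''.map M'.mkQ
  let q : M'' →ₗ[R] Q := (M'.mkQ ∘ₗ M''.subtype).codRestrict Q fun x => ⟨x, x.2, rfl⟩
  have hq : Function.Surjective q := by
    rintro ⟨_, x, hx, rfl⟩
    exact ⟨⟨x, hx⟩, Subtype.ext rfl⟩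
  have hM'' : M''.baseChange S = part N (J ∪ C) := by rw [baseChange_sup, hM', hC, part_union]
  obtain ⟨πJ, hπJmem, hπJ⟩ := exists_proj N hN J
  obtain ⟨π, hπmem, hπ⟩ := exists_proj N hN (J ∪ C)
  haveI hflat' : Module.Flat R (M ⧸ M') := flat_quotient_of_part S hS N hN hM'
  haveI hflat'' : Module.Flat R (M ⧸ M'') := flat_quotient_of_part S hS N hN hM''
  have hinjM : Function.Injective (M''.subtype.baseChange S) :=
    LinearMap.lTensor_injective_of_exact_of_flat M''.mkQ M''.mkQ_surjective M''.subtype
      M''.injective_subtype (LinearMap.exact_subtype_mkQ M'') S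
  haveI hflatQQ : Module.Flat R ((M ⧸ M') ⧸ Q) :=
    Module.Flat.of_linearEquiv (Submodule.quotientQuotientEquivQuotient M' M'' le_sup_left)
  have hinjQ : Function.Injective (Q.subtype.baseChange S) :=
    LinearMap.lTensor_injective_of_exact_of_flat Q.mkQ Q.mkQ_surjective Q.subtype
      Q.injective_subtype (LinearMap.exact_subtype_mkQ Q) S
  have hexact : Function.Exact (M'.subtype.baseChange S) (M'.mkQ.baseChange S) :=
    lTensor_exact S (LinearMap.exact_subtype_mkQ M') M'.mkQ_surjective
  have hsurj : Function.Surjective (M'.mkQ.baseChange S) := LinearMap.lTensor_surjective S M'.mkQ_surjective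
  have hkill : ∀ y ∈ part N J, M'.mkQ.baseChange S y = 0 := fun y hy => by
    rw [← hM', baseChange_eq_range] at hy
    exact (hexact y).mpr hy
  have hle : LinearMap.ker (M'.mkQ.baseChange S) ≤ LinearMap.ker (LinearMap.id - πJ) := fun y hy => by
    have hy' : y ∈ part N J := by
      rw [← hM', baseChange_eq_range]; exact (hexact y).mp hy
    rw [LinearMap.mem_ker, LinearMap.sub_apply, LinearMap.id_apply, hπJ y hy', sub_self]
  let γ : S ⊗[R] (M ⧸ M') →ₗ[S] S ⊗[R] M :=
    (LinearMap.ker (M'.mkQ.baseChange S)).liftQ (LinearMap.id - πJ) hle ∘ₗ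
      (LinearMap.quotKerEquivOfSurjective _ hsurj).symm.toLinearMap
  have hγ : ∀ y, γ (M'.mkQ.baseChange S y) = y - πJ y := fun y => by
    simp only [γ, LinearMap.coe_comp, LinearEquiv.coe_coe, Function.comp_apply]
    have : (LinearMap.quotKerEquivOfSurjective _ hsurj).symm (M'.mkQ.baseChange S y) =
        (LinearMap.ker (M'.mkQ.baseChange S)).mkQ y :=
      (LinearEquiv.symm_apply_eq _).mpr rfl
    rw [this]; rfl
  let e : S ⊗[R] M'' ≃ₗ[S] M''.baseChange S :=
    LinearEquiv.ofBijective (M''.toBaseChange S)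
      ⟨fun a b hab => hinjM (congrArg Subtype.val hab), M''.toBaseChange_surjective S⟩
  let r : S ⊗[R] M →ₗ[S] S ⊗[R] Q :=
    q.baseChange S ∘ₗ e.symm.toLinearMap ∘ₗ π.codRestrict (M''.baseChange S) fun x => hM''.symm ▸ hπmem x
  have hcomm : ∀ x : S ⊗[R] M'',
      Q.subtype.baseChange S (q.baseChange S x) = M'.mkQ.baseChange S (M''.subtype.baseChange S x) := fun x => by
    rw [← LinearMap.comp_apply, ← LinearMap.baseChange_comp, ← LinearMap.comp_apply, ← LinearMap.baseChange_comp]
    rfl
  have hr : ∀ w, Q.subtype.baseChange S (r w) = M'.mkQ.baseChange S (π w) := fun w => by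
    simp only [r, LinearMap.coe_comp, LinearEquiv.coe_coe, Function.comp_apply]
    rw [hcomm]
    congr 1
    exact congrArg Subtype.val (e.apply_symm_apply ⟨π w, hM''.symm ▸ hπmem w⟩)
  have hsplit : r ∘ₗ (γ ∘ₗ Q.subtype.baseChange S) = LinearMap.id := by
    refine LinearMap.ext fun z => hinjQ ?_
    obtain ⟨x, rfl⟩ := LinearMap.lTensor_surjective S hq z
    change Q.subtype.baseChange S (r (γ (Q.subtype.baseChange S (q.baseChange S x)))) =
      Q.subtype.baseChange S (q.baseChange S x)
    rw [hr, hcomm, hγ]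
    have hy : M''.subtype.baseChange S x ∈ part N (J ∪ C) := by
      rw [← hM'', baseChange_eq_range]; exact ⟨x, rfl⟩
    rw [hπ _ (sub_mem hy (part_mono N Set.subset_union_left (hπJmem _))), map_sub,
      hkill _ (hπJmem _), sub_zero]
  have hproj : Module.Projective S (S ⊗[R] Q) := Module.Projective.of_split _ r hsplit
  haveI : IsNoetherianRing S := isNoetherian_of_tower R (inferInstance : IsNoetherian R S)
  have : Module.Flat R Q := S6883.result R S hS Q
  have hQc : CG Q := by
    refine ⟨M'.mkQ '' s, hs.image _, ?_⟩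
    show _ = (M' ⊔ span R s).map M'.mkQ
    rw [Submodule.map_sup, ← map_span, show M'.map M'.mkQ = ⊥ from by
      rw [_root_.eq_bot_iff]; rintro _ ⟨x, hx, rfl⟩; exact (Submodule.Quotient.mk_eq_zero _).mpr hx, bot_sup_eq]
  have hQ : Module.Projective R Q :=
    projective_of_countablyGenerated (isMittagLeffler_of_baseChange S hS (isMittagLeffler_of_projective _))
      (isCountablyGenerated_coe hQc)
  obtain ⟨σ, hσ⟩ := Module.projective_lifting_property q LinearMap.id hq
  have hσ' : ∀ z : Q, M'.mkQ (σ z : M) = (z : M ⧸ M') := fun z => congrArg Subtype.val (LinearMap.congr_fun hσ z)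
  let f : Q →ₗ[R] M := M''.subtype ∘ₗ σ
  have hf : Function.Injective f := fun a b hab => Subtype.ext (by rw [← hσ' a, ← hσ' b]; exact congrArg _ hab)
  refine ⟨LinearMap.range f, ?_, Module.Projective.of_equiv (LinearEquiv.ofInjective f hf), ?_, ?_⟩
  · obtain ⟨t, ht, htspan⟩ := isCountablyGenerated_coe hQc
    exact ⟨f '' t, ht.image _, by rw [← map_span, htspan, Submodule.map_top]⟩
  · rw [disjoint_def]
    rintro _ ⟨z, rfl⟩ hz
    have : (z : M ⧸ M') = 0 := by
      rw [← hσ' z]; exact (Submodule.Quotient.mk_eq_zero _).mpr hz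
    rw [show z = 0 from Subtype.ext this, map_zero]
  · refine le_antisymm (sup_le ?_ le_sup_left) fun m hm => ?_
    · rintro _ ⟨z, rfl⟩; exact (σ z).2
    · let z : Q := q ⟨m, hm⟩
      rw [← add_sub_cancel (f z) m]
      refine add_mem (mem_sup_left ⟨z, rfl⟩) (mem_sup_right ?_)
      rw [← Submodule.Quotient.mk_eq_zero, ← Submodule.mkQ_apply, map_sub, sub_eq_zero]
      exact (hσ' z).symm

/-- The states of the descent. -/
def Stages (p : Set κ × Set (Submodule R M)) : Prop :=
  (∀ L ∈ p.2, Module.Projective R L) ∧ sSupIndep p.2 ∧ (sSup p.2).baseChange S = part N p.1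

include hS in
/-- Projectivity descends along finite injective ring maps. -/
theorem projective_of_baseChange [Module.Projective S (S ⊗[R] M)] : Module.Projective R M := by
  haveI : IsNoetherianRing S := isNoetherian_of_tower R (inferInstance : IsNoetherian R S)
  haveI : Module.Flat R M := S6883.result R S hS M
  obtain ⟨κ, N, hN, hNc⟩ := exists_isInternal_of_projective (R := S) (S ⊗[R] M)
  have hc : ∀ k, CG (N k) := fun k => by
    obtain ⟨t, ht, hspan⟩ := hNc k
    exact ⟨(N k).subtype '' t, ht.image _, by rw [← map_span, hspan, Submodule.map_top, range_subtype]⟩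
  obtain ⟨p, hp, hmax⟩ : ∃ p, Maximal (· ∈ {p | Stages S N p}) p := by
    refine zorn_le₀ _ fun c hcs hchain => ?_
    refine ⟨(⋃ p ∈ c, p.1, ⋃ p ∈ c, p.2), ⟨?_, ?_, ?_⟩, fun p hp => ⟨?_, ?_⟩⟩
    · intro L hL
      obtain ⟨q, hq, hLq⟩ := Set.mem_iUnion₂.mp hL
      exact (hcs hq).1 L hLq
    · show sSupIndep (⋃ p ∈ c, p.2)
      rw [Set.biUnion_eq_iUnion]
      exact sSupIndep_iUnion_of_directed
        (fun a b => (hchain.directed a b).imp fun z hz => ⟨hz.1.2, hz.2.2⟩)
        fun q => (hcs q.2).2.1
    · refine le_antisymm ?_ ?_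
      · rw [baseChange_sSup]
        refine iSup₂_le fun L hL => ?_
        obtain ⟨q, hq, hLq⟩ := Set.mem_iUnion₂.mp hL
        exact (MLProjLib.baseChange_mono S (le_sSup hLq)).trans ((hcs hq).2.2.le.trans
          (part_mono N (Set.subset_biUnion_of_mem (u := fun p : Set κ × Set (Submodule R M) => p.1) hq)))
      · refine iSup₂_le fun k hk => ?_
        obtain ⟨q, hq, hkq⟩ := Set.mem_iUnion₂.mp hk
        exact (le_iSup₂_of_le k hkq le_rfl : N k ≤ part N q.1).trans ((hcs hq).2.2.ge.trans
          (MLProjLib.baseChange_mono S (sSup_le_sSup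
            (Set.subset_biUnion_of_mem (u := fun p : Set κ × Set (Submodule R M) => p.2) hq))))
    · exact Set.subset_biUnion_of_mem (u := fun p : Set κ × Set (Submodule R M) => p.1) hp
    · exact Set.subset_biUnion_of_mem (u := fun p : Set κ × Set (Submodule R M) => p.2) hp
  obtain ⟨J, 𝓛⟩ := p
  obtain ⟨hproj, hind, hsup⟩ := hp
  have hJ : J = Set.univ := by
    by_contra hne
    obtain ⟨k₀, hk₀⟩ := (Set.ne_univ_iff_exists_notMem J).mp hne
    obtain ⟨C, s, hs, hkC, hC⟩ := exists_closure_baseChange S N hN hc k₀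
    obtain ⟨L, -, hLp, hdisj, hLsup⟩ := exists_complement S hS N hN hs hsup hC
    have hgood : Stages S N (J ∪ C, insert L 𝓛) := by
      refine ⟨?_, ?_, ?_⟩
      · rintro K (rfl | hK)
        · exact hLp
        · exact hproj K hK
      · intro a ha
        by_cases hLmem : L ∈ 𝓛
        · rw [Set.insert_eq_of_mem hLmem] at ha ⊢
          exact hind ha
        rcases ha with rfl | ha
        · rw [Set.insert_sdiff_of_mem _ (Set.mem_singleton _)]
          exact hdisj.mono_right (sSup_le_sSup Set.sdiff_subset)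
        · have hne : L ≠ a := fun h => hLmem (h ▸ ha)
          rw [Set.insert_sdiff_of_notMem _ (by simpa using hne), sSup_insert]
          have h2 : Disjoint L (a ⊔ sSup (𝓛 \ {a})) :=
            hdisj.mono_right (sup_le (le_sSup ha) (sSup_le_sSup Set.sdiff_subset))
          rw [sup_comm]
          exact (hind ha).disjoint_sup_right_of_disjoint_sup_left h2.symm
      · show (sSup (insert L 𝓛)).baseChange S = part N (J ∪ C)
        rw [sSup_insert, hLsup, baseChange_sup, hsup, hC, part_union]
    exact hk₀ ((hmax hgood ⟨Set.subset_union_left, Set.subset_insert _ _⟩).1 (Set.mem_union_right J hkC))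
  have htop : sSup 𝓛 = ⊤ := by
    rw [← range_subtype (sSup 𝓛), LinearMap.range_eq_top]
    refine surjective_of_lTensor S hS _ ?_
    intro y
    have hy : y ∈ (sSup 𝓛).baseChange S := by
      rw [hsup, hJ]
      show y ∈ ⨆ i ∈ Set.univ, N i
      rw [iSup_univ, hN.submodule_iSup_eq_top]
      trivial
    exact hy
  refine projective_of_isInternal (L := fun L : 𝓛 => (L : Submodule R M)) ?_ fun L => hproj _ L.2
  exact @isInternal_submodule_of_iSupIndep_of_iSup_eq_top _ _ _ (fun a b => Classical.propDecidable (a = b)) _ _ _ _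
    ((sSupIndep_iff 𝓛).mp hind) (by rw [← sSup_eq_iSup', htop])

end Groth.Agent.MLFinDescLib
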